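import Mathlib.AlgebraicGeometry.EllipticCurve.Affine.Point
import Mathlib.RingTheory.Valuation.Basic
import Mathlib.GroupTheory.OrderOfElement
import Mathlib.Tactic.FieldSimp
import Mathlib.Tactic.LinearCombination

/-!
The filtration of the nonsingular-reduction points of a Weierstrass cubic with all coefficients
small, in the coordinates `z = x/y`, `w = 1/y`.
-/

set_option autoImplicit false
universe u

open WithZero Polynomial
open WeierstrassCurve WeierstrassCurve.Affine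

namespace Groth.L15.EllTors

variable {K : Type u} [Field K] (v : Valuation K (WithZero (Multiplicative ℤ)))

/-- `x` has valuation at least `j`. -/
def M (j : ℕ) (x : K) : Prop := v x ≤ exp (-(j : ℤ))

variable {v}

theorem M.zero (j : ℕ) : M v j (0 : K) := by simp [M]

theorem M.add {j : ℕ} {a b : K} (ha : M v j a) (hb : M v j b) : M v j (a + b) :=
  v.map_add_le ha hb

theorem M.sub {j : ℕ} {a b : K} (ha : M v j a) (hb : M v j b) : M v j (a - b) :=
  (v.map_sub a b).trans (max_le ha hb)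

theorem M.neg {j : ℕ} {a : K} (ha : M v j a) : M v j (-a) := by simpa [M] using ha

theorem M.mono {i j : ℕ} {a : K} (ha : M v j a) (h : i ≤ j) : M v i a :=
  le_trans ha (exp_le_exp.2 (by omega))

theorem M.mul {i j : ℕ} {a b : K} (ha : M v i a) (hb : M v j b) : M v (i + j) (a * b) := by
  unfold M at *
  rw [map_mul, Nat.cast_add, neg_add, exp_add]
  exact mul_le_mul' ha hb

theorem M.natCast (n : ℕ) : M v 0 (n : K) := by
  induction n with
  | zero => simpa using M.zero 0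
  | succ n ih => rw [Nat.cast_succ]; exact ih.add (by simp [M])

theorem M.ofNat (n : ℕ) [n.AtLeastTwo] : M v 0 (OfNat.ofNat n : K) := by
  have h := M.natCast (v := v) (OfNat.ofNat n : ℕ)
  rwa [Nat.cast_ofNat] at h

theorem M_one_iff {a : K} : M v 1 a ↔ v a < 1 := by
  unfold M
  rcases eq_or_ne (v a) 0 with h | h
  · simp [h]
  · obtain ⟨k, hk⟩ : ∃ k, v a = exp k := ⟨_, (exp_log h).symm⟩
    rw [hk, ← exp_zero, exp_le_exp, exp_lt_exp]
    omega

theorem M_zero_iff {a : K} : M v 0 a ↔ v a ≤ 1 := by simp [M]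

theorem M.unit {e : K} (he : M v 1 e) : v (1 + e) = 1 := v.map_one_add_of_lt (M_one_iff.1 he)

theorem M.unit_ne_zero {e : K} (he : M v 1 e) : (1 + e : K) ≠ 0 := fun h => by
  simpa [h] using he.unit

theorem M.div_unit {j : ℕ} {a e : K} (ha : M v j a) (he : M v 1 e) : M v j (a / (1 + e)) := by
  have hu := he.unit
  unfold M at *
  rwa [map_div₀, hu, div_one]

theorem eq_zero_of_forall_M {a : K} (h : ∀ j, M v j a) : a = 0 := by
  by_contra ha
  obtain ⟨k, hk⟩ : ∃ k, v a = exp k := ⟨_, (exp_log (v.ne_zero_iff.2 ha)).symm⟩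
  have := h (k.natAbs + 1)
  rw [M, hk, exp_le_exp] at this
  omega

variable (v)

/-- All coefficients lie in the maximal ideal. -/
structure Small (W : WeierstrassCurve.Affine K) : Prop where
  a₁ : M v 1 W.a₁
  a₂ : M v 1 W.a₂
  a₃ : M v 1 W.a₃
  a₄ : M v 1 W.a₄
  a₆ : M v 1 W.a₆

variable {W : WeierstrassCurve.Affine K}

/-- The points with nonsingular reduction. -/
def Good : W.Point → Prop
  | 0 => True
  | .some x y _ => y ≠ 0 ∧ M v 0 (x / y) ∧ M v 0 (1 / y)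

/-- The coordinate `x / y`. -/
def zc : W.Point → K
  | 0 => 0
  | .some x y _ => x / y

variable {v}

theorem zw_eq {x y : K} (hy : y ≠ 0) (h : W.Equation x y) :
    (1 / y) * (1 + (W.a₁ * (x / y) + W.a₃ * (1 / y) - W.a₂ * (x / y) ^ 2 - W.a₄ * (x / y) * (1 / y)
      - W.a₆ * (1 / y) ^ 2)) = (x / y) ^ 3 := by
  rw [equation_iff] at h
  field_simp
  linear_combination h

variable (hW : Small v W)
include hW

theorem small_e {z w : K} (hz : M v 0 z) (hw : M v 0 w) :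
    M v 1 (W.a₁ * z + W.a₃ * w - W.a₂ * z ^ 2 - W.a₄ * z * w - W.a₆ * w ^ 2) := by
  rw [sq, sq]
  exact ((((hW.a₁.mul hz).add (hW.a₃.mul hw)).sub (hW.a₂.mul (hz.mul hz))).sub
    ((hW.a₄.mul hz).mul hw)).sub (hW.a₆.mul (hw.mul hw))

theorem M_w {j : ℕ} {x y : K} (hy : y ≠ 0) (h : W.Equation x y) (hw : M v 0 (1 / y))
    (hz : M v j (x / y)) : M v (3 * j) (1 / y) := by
  have e := small_e hW (hz.mono (Nat.zero_le _)) hw
  have h3 : M v (3 * j) ((x / y) ^ 3) := by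
    rw [pow_succ, pow_two, show 3 * j = j + j + j by omega]
    exact (hz.mul hz).mul hz
  have := h3.div_unit e
  rwa [← zw_eq hy h, mul_div_assoc, div_self e.unit_ne_zero, mul_one] at this

omit hW in
theorem negY_eq {x y : K} (hy : y ≠ 0) :
    W.negY x y = -y * (1 + (W.a₁ * (x / y) + W.a₃ * (1 / y))) := by
  rw [negY]; field_simp; ring

theorem good_neg {j : ℕ} {x y : K} (hy : y ≠ 0) (hz : M v j (x / y)) (hw : M v 0 (1 / y)) :
    W.negY x y ≠ 0 ∧ M v 0 (1 / W.negY x y) ∧ M v j (x / W.negY x y) ∧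
      M v (j + 1) (x / W.negY x y + x / y) := by
  set e := W.a₁ * (x / y) + W.a₃ * (1 / y) with he
  have he1 : M v 1 e := (hW.a₁.mul (hz.mono (Nat.zero_le _))).add (hW.a₃.mul hw)
  have hne := he1.unit_ne_zero
  rw [negY_eq hy, ← he]
  have h1 : x / (-y * (1 + e)) = -((x / y) / (1 + e)) := by field_simp
  have h2 : 1 / (-y * (1 + e)) = -((1 / y) / (1 + e)) := by field_simp
  have h3 : -((x / y) / (1 + e)) + x / y = (x / y * e) / (1 + e) := by field_simp; ring
  refine ⟨mul_ne_zero (neg_ne_zero.2 hy) hne, ?_, ?_, ?_⟩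
  · rw [h2]; exact (hw.div_unit he1).neg
  · rw [h1]; exact (hz.div_unit he1).neg
  · rw [h1, h3]; exact (hz.mul he1).div_unit he1

variable [DecidableEq K]

/-- The chord through two good points in the `(z, w)`-coordinates. -/
theorem line_bound {j : ℕ} {x₁ x₂ y₁ y₂ : K} (h₁ : W.Equation x₁ y₁) (h₂ : W.Equation x₂ y₂)
    (hy₁ : y₁ ≠ 0) (hy₂ : y₂ ≠ 0) (hz₁ : M v j (x₁ / y₁)) (hz₂ : M v j (x₂ / y₂))
    (hw₁ : M v 0 (1 / y₁)) (hw₂ : M v 0 (1 / y₂)) (hxy : ¬(x₁ = x₂ ∧ y₁ = W.negY x₂ y₂)) :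
    let ℓ := W.slope x₁ x₂ y₁ y₂
    let ν := y₁ - ℓ * x₁
    ν ≠ 0 ∧ y₂ = ℓ * x₂ + ν ∧ M v j (-ℓ / ν) := by
  intro ℓ ν
  have z₁0 := hz₁.mono (Nat.zero_le _)
  have z₂0 := hz₂.mono (Nat.zero_le _)
  have hW₁ := (M_w hW hy₁ h₁ hw₁ hz₁).mono (show j ≤ 3 * j by omega)
  have hW₂ := (M_w hW hy₂ h₂ hw₂ hz₂).mono (show j ≤ 3 * j by omega)
  rcases eq_or_ne x₁ x₂ with hx | hx
  · obtain rfl : y₁ = y₂ := Y_eq_of_Y_ne h₁ h₂ hx fun h => hxy ⟨hx, h⟩
    subst hx
    have hy : y₁ ≠ W.negY x₁ y₁ := fun h => hxy ⟨rfl, h⟩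
    have hℓ : ℓ * (y₁ - W.negY x₁ y₁) = 3 * x₁ ^ 2 + 2 * W.a₂ * x₁ + W.a₄ - W.a₁ * y₁ := by
      rw [show ℓ = _ from slope_of_Y_ne rfl hy, div_mul_cancel₀ _ (sub_ne_zero.2 hy)]
    set z := x₁ / y₁ with hz
    set w := 1 / y₁ with hw
    have hV : M v j (3 * z ^ 2 + 2 * W.a₂ * z * w + W.a₄ * w ^ 2 - W.a₁ * w) := by
      rw [sq, sq]
      refine ((?_ : M v j (3 * (z * z))).add ?_ |>.add ?_).sub ?_
      · exact ((M.ofNat 3).mul (hz₁.mul hz₁)).mono (by omega)
      · exact ((((M.ofNat 2).mul hW.a₂).mul hz₁).mul hW₁).mono (by omega)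
      · exact (hW.a₄.mul (hW₁.mul hW₁)).mono (by omega)
      · exact (hW.a₁.mul hW₁).mono (by omega)
    have hU : M v 1 (W.a₁ * z + 2 * (W.a₃ * w) - W.a₂ * z ^ 2 - 2 * (W.a₄ * z * w) - 3 * (W.a₆ * w ^ 2)) := by
      rw [sq, sq]
      exact ((((hW.a₁.mul z₁0).add ((M.ofNat 2).mul (hW.a₃.mul hw₁))).sub
        (hW.a₂.mul (z₁0.mul z₁0))).sub ((M.ofNat 2).mul ((hW.a₄.mul z₁0).mul hw₁))).sub
        ((M.ofNat 3).mul (hW.a₆.mul (hw₁.mul hw₁)))
    set U := W.a₁ * z + 2 * (W.a₃ * w) - W.a₂ * z ^ 2 - 2 * (W.a₄ * z * w) - 3 * (W.a₆ * w ^ 2) with hUd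
    set V := 3 * z ^ 2 + 2 * W.a₂ * z * w + W.a₄ * w ^ 2 - W.a₁ * w with hVd
    have key : -ℓ * (1 + U) = V * ν := by
      rw [equation_iff] at h₁
      rw [negY] at hℓ
      simp only [hUd, hVd, hz, hw, ν]
      field_simp
      linear_combination y₁ * hℓ - (3 * ℓ) * h₁
    have hν : ν ≠ 0 := by
      intro h0
      rw [h0, mul_zero, mul_eq_zero, neg_eq_zero] at key
      rcases key with hl | hu
      · apply hy₁
        simpa [ν, hl] using h0
      · exact hU.unit_ne_zero hu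
    refine ⟨hν, by ring, ?_⟩
    have : -ℓ / ν = V / (1 + U) := by
      rw [div_eq_div_iff hν hU.unit_ne_zero, key]
    rw [this]
    exact hV.div_unit hU
  · have hℓ : ℓ = (y₁ - y₂) / (x₁ - x₂) := slope_of_X_ne hx
    have hy₂' : y₂ = ℓ * x₂ + ν := by
      have : ℓ * (x₁ - x₂) = y₁ - y₂ := by rw [hℓ, div_mul_cancel₀ _ (sub_ne_zero.2 hx)]
      linear_combination this
    set z₁ := x₁ / y₁ with hz1d
    set z₂ := x₂ / y₂ with hz2d
    set w₁ := 1 / y₁ with hw1d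
    set w₂ := 1 / y₂ with hw2d
    set U := W.a₁ * z₁ + W.a₃ * (w₁ + w₂) - W.a₂ * z₁ ^ 2 - W.a₄ * z₁ * (w₁ + w₂)
      - W.a₆ * (w₁ ^ 2 + w₁ * w₂ + w₂ ^ 2) with hUd
    set V := z₂ ^ 2 + z₁ * z₂ + z₁ ^ 2 + W.a₂ * (z₁ + z₂) * w₂ + W.a₄ * w₂ ^ 2 - W.a₁ * w₂ with hVd
    have hU : M v 1 U := by
      rw [hUd, sq, sq, sq]
      exact ((((hW.a₁.mul z₁0).add (hW.a₃.mul (hw₁.add hw₂))).sub (hW.a₂.mul (z₁0.mul z₁0))).sub
        ((hW.a₄.mul z₁0).mul (hw₁.add hw₂))).sub
        (hW.a₆.mul (((hw₁.mul hw₁).add (hw₁.mul hw₂)).add (hw₂.mul hw₂)))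
    have hV : M v j V := by
      rw [hVd, sq, sq, sq]
      refine ((((hz₂.mul hz₂).mono (by omega)).add ((hz₁.mul hz₂).mono (by omega)) |>.add
        ((hz₁.mul hz₁).mono (by omega))).add ?_ |>.add ?_).sub ?_
      · exact ((hW.a₂.mul (hz₁.add hz₂)).mul hW₂).mono (by omega)
      · exact (hW.a₄.mul (hW₂.mul hW₂)).mono (by omega)
      · exact (hW.a₁.mul hW₂).mono (by omega)
    have key : (w₂ - w₁) * (1 + U) = (z₂ - z₁) * V := by
      have e₁ := zw_eq hy₁ h₁
      have e₂ := zw_eq hy₂ h₂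
      rw [← hz1d, ← hw1d] at e₁
      rw [← hz2d, ← hw2d] at e₂
      rw [hUd, hVd]
      linear_combination e₂ - e₁
    have hzne : z₁ ≠ z₂ := by
      intro h0
      rw [h0, sub_self, zero_mul, mul_eq_zero, sub_eq_zero] at key
      rcases key with hw | hu
      · rw [hw2d, hw1d, one_div, one_div, inv_inj] at hw
        apply hx
        rw [hz1d, hz2d, hw] at h0
        exact (div_left_inj' hy₁).1 h0
      · exact hU.unit_ne_zero hu
    have e1 : ℓ * z₁ + ν * w₁ = 1 := by simp only [hz1d, hw1d, ν]; field_simp; ring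
    have e2 : ℓ * z₂ + ν * w₂ = 1 := by
      simp only [hz2d, hw2d]; field_simp; linear_combination -hy₂'
    have hν : ν ≠ 0 := by
      intro h0
      rw [h0, zero_mul, add_zero] at e1 e2
      exact hzne (mul_left_cancel₀ (left_ne_zero_of_mul_eq_one e1) (e1.trans e2.symm))
    refine ⟨hν, hy₂', ?_⟩
    have hlin : (z₂ - z₁) * (-ℓ) = (w₂ - w₁) * ν := by linear_combination e1 - e2
    have : -ℓ / ν = V / (1 + U) := by
      rw [div_eq_div_iff hν hU.unit_ne_zero]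
      apply mul_left_cancel₀ (sub_ne_zero.2 hzne.symm)
      linear_combination (1 + U) * hlin + ν * key
    rw [this]
    exact hV.div_unit hU

/-- Additivity of `x / y` modulo higher order. -/
theorem good_add {j : ℕ} (P Q : W.Point) (hP : Good v P) (hQ : Good v Q) (hzP : M v j (zc P))
    (hzQ : M v j (zc Q)) :
    Good v (P + Q) ∧ M v j (zc (P + Q)) ∧ M v (j + 1) (zc (P + Q) - zc P - zc Q) := by
  rcases P with _ | ⟨x₁, y₁, h₁⟩
  · rw [← Point.zero_def, zero_add]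
    exact ⟨hQ, hzQ, by simpa [zc] using M.zero (v := v) (j + 1)⟩
  rcases Q with _ | ⟨x₂, y₂, h₂⟩
  · rw [← Point.zero_def, add_zero]
    exact ⟨hP, hzP, by simpa [zc] using M.zero (v := v) (j + 1)⟩
  obtain ⟨hy₁, hz₁0, hw₁⟩ := hP
  obtain ⟨hy₂, hz₂0, hw₂⟩ := hQ
  simp only [zc] at hzP hzQ
  by_cases hxy : x₁ = x₂ ∧ y₁ = W.negY x₂ y₂
  · rw [Point.add_of_Y_eq hxy.1 hxy.2]
    obtain ⟨-, -, -, h⟩ := good_neg hW hy₂ hzQ hw₂
    refine ⟨trivial, M.zero _, ?_⟩
    show M v (j + 1) (0 - x₁ / y₁ - x₂ / y₂)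
    rw [hxy.1, hxy.2, zero_sub, ← neg_add']
    exact h.neg
  obtain ⟨hν, hy₂', hA⟩ := line_bound hW h₁.1 h₂.1 hy₁ hy₂ hzP hzQ hw₁ hw₂ hxy
  set ℓ := W.slope x₁ x₂ y₁ y₂
  set ν := y₁ - ℓ * x₁ with hνd
  set x₃ := W.addX x₁ x₂ ℓ with hx₃
  set y₃ := W.negAddY x₁ x₂ y₁ ℓ with hy₃
  have e := addPolynomial_slope h₁.1 h₂.1 hxy
  rw [addPolynomial_eq, neg_inj, Cubic.prod_X_sub_C_eq, Cubic.toPoly_injective] at e
  have e1 : x₁ + x₂ + x₃ = ℓ ^ 2 + W.a₁ * ℓ - W.a₂ := by simp only [hx₃, addX]; ring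
  have e2 : x₁ * x₂ + x₁ * x₃ + x₂ * x₃ = W.a₄ - 2 * ℓ * ν - W.a₁ * ν - W.a₃ * ℓ := by
    have := congr_arg Cubic.c e
    simp only at this
    linear_combination -this
  have e3 : x₁ * x₂ * x₃ = ν ^ 2 + W.a₃ * ν - W.a₆ := by
    have := congr_arg Cubic.d e
    simp only at this
    linear_combination this
  have hy₃' : y₃ = ℓ * x₃ + ν := by simp only [hy₃, negAddY, hx₃, hνd]; ring
  have hy₁' : y₁ = ℓ * x₁ + ν := by ring
  set A := -ℓ / ν with hAd
  have hB : M v j (1 / ν) := by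
    have : 1 / ν = 1 / y₁ - A * (x₁ / y₁) := by
      simp only [hAd]; field_simp; linear_combination hy₁'
    rw [this]
    exact ((M_w hW hy₁ h₁.1 hw₁ hzP).mono (by omega)).sub ((hA.mul hzP).mono (by omega))
  set B := 1 / ν with hBd
  have A0 := hA.mono (Nat.zero_le _)
  have hc3 : M v 1 (W.a₂ * A + W.a₄ * A ^ 2 + W.a₆ * A ^ 3) := by
    rw [pow_succ A 2, sq]
    exact ((hW.a₂.mul A0).add (hW.a₄.mul (A0.mul A0))).add (hW.a₆.mul ((A0.mul A0).mul A0))
  have hc2 : M v (j + 1) (W.a₂ * B + 2 * (W.a₄ * A * B) + 3 * (W.a₆ * A ^ 2 * B) - W.a₁ * A - W.a₃ * A ^ 2) := by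
    rw [sq]
    exact (((((hW.a₂.mul hB).mono (by omega)).add (((M.ofNat 2).mul ((hW.a₄.mul A0).mul hB)).mono (by omega))).add
      (((M.ofNat 3).mul ((hW.a₆.mul (A0.mul A0)).mul hB)).mono (by omega))).sub
      ((hW.a₁.mul hA).mono (by omega))).sub ((hW.a₃.mul (hA.mul A0)).mono (by omega))
  have hprod : y₁ * y₂ * y₃ = ν ^ 3 * (1 + (W.a₂ * A + W.a₄ * A ^ 2 + W.a₆ * A ^ 3)) := by
    rw [hy₁', hy₂', hy₃', hAd]
    field_simp
    linear_combination ℓ * ν ^ 2 * e1 + ℓ ^ 2 * ν * e2 + ℓ ^ 3 * e3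
  have hy₃0 : y₃ ≠ 0 := fun h0 => by
    rw [h0, mul_zero] at hprod
    exact mul_ne_zero (pow_ne_zero 3 hν) hc3.unit_ne_zero hprod.symm
  have hsum : x₁ / y₁ + x₂ / y₂ + x₃ / y₃ =
      -((W.a₂ * B + 2 * (W.a₄ * A * B) + 3 * (W.a₆ * A ^ 2 * B) - W.a₁ * A - W.a₃ * A ^ 2) /
        (1 + (W.a₂ * A + W.a₄ * A ^ 2 + W.a₆ * A ^ 3))) := by
    have hl : x₁ / y₁ + x₂ / y₂ + x₃ / y₃ =
        (x₁ * y₂ * y₃ + y₁ * x₂ * y₃ + y₁ * y₂ * x₃) / (y₁ * y₂ * y₃) := by field_simp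
    have hnum : x₁ * y₂ * y₃ + y₁ * x₂ * y₃ + y₁ * y₂ * x₃ =
        -(ν ^ 3 * (W.a₂ * B + 2 * (W.a₄ * A * B) + 3 * (W.a₆ * A ^ 2 * B) - W.a₁ * A - W.a₃ * A ^ 2)) := by
      rw [hy₁', hy₂', hy₃', hAd, hBd]
      field_simp
      linear_combination ν ^ 2 * e1 + 2 * ℓ * ν * e2 + 3 * ℓ ^ 2 * e3
    rw [hl, hnum, hprod, neg_div, mul_div_mul_left _ _ (pow_ne_zero 3 hν)]
  have hS : M v (j + 1) (x₁ / y₁ + x₂ / y₂ + x₃ / y₃) := by
    rw [hsum]; exact (hc2.div_unit hc3).neg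
  have hz₃ : M v j (x₃ / y₃) := by
    have := ((hS.mono (show j ≤ j + 1 by omega)).sub hzP).sub hzQ
    convert! this using 1; ring
  have hw₃ : M v 0 (1 / y₃) := by
    have : 1 / y₃ = A * (x₃ / y₃) + B := by
      simp only [hAd, hBd]; field_simp; linear_combination -hy₃'
    rw [this]
    exact ((hA.mul hz₃).mono (Nat.zero_le _)).add (hB.mono (Nat.zero_le _))
  obtain ⟨hn0, hnw, hnz, hns⟩ := good_neg hW hy₃0 hz₃ hw₃
  rw [Point.add_some hxy]
  refine ⟨⟨hn0, hnz.mono (Nat.zero_le _), hnw⟩, hnz, ?_⟩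
  have := hns.sub hS
  show M v (j + 1) (x₃ / W.negY x₃ y₃ - x₁ / y₁ - x₂ / y₂)
  convert! this using 1; ring

/-- A nonsingularly reducing torsion point of order prime to the residue characteristic is zero. -/
theorem eq_zero_of_good {n : ℕ} (hn : v (n : K) = 1) (Q : W.Point) (hQ : Good v Q) (hnQ : n • Q = 0) :
    Q = 0 := by
  rcases Q with _ | ⟨x, y, h⟩
  · rfl
  exfalso
  obtain ⟨hy, hz, hw⟩ := hQ
  have step : ∀ j, M v j (x / y) := by
    intro j
    induction j with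
    | zero => exact hz
    | succ j ih =>
      have hk : ∀ k : ℕ, Good v (k • Point.some x y h) ∧ M v j (zc (k • Point.some x y h)) ∧
          M v (j + 1) (zc (k • Point.some x y h) - k * (x / y)) := by
        intro k
        induction k with
        | zero => exact ⟨by rw [zero_smul]; trivial, by rw [zero_smul]; exact M.zero _, by
            rw [zero_smul]; simpa [zc, Point.zero_def] using M.zero (v := v) (j + 1)⟩
        | succ k ihk =>
          obtain ⟨g, gz, gs⟩ := ihk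
          obtain ⟨a, b, c⟩ := good_add hW (k • Point.some x y h) (Point.some x y h) g ⟨hy, hz, hw⟩ gz ih
          rw [succ_nsmul]
          refine ⟨a, b, ?_⟩
          have := c.add gs
          convert! this using 1
          simp only [zc]; push_cast; ring
      have := (hk n).2.2
      rw [hnQ] at this
      have h0 : zc (0 : W.Point) = 0 := rfl
      rw [h0, zero_sub] at this
      have := this.neg
      rw [neg_neg, M, map_mul, hn, one_mul] at this
      exact this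
  have hz0 := eq_zero_of_forall_M step
  have := zw_eq hy h.1
  rw [hz0, zero_pow three_ne_zero, mul_eq_zero] at this
  rcases this with h1 | h1
  · exact hy (by simpa using h1)
  · exact (small_e hW (M.zero 0) hw).unit_ne_zero h1

/-- A point with singular reduction. -/
theorem good_or_small {x y : K} (h : W.Nonsingular x y) :
    Good v (Point.some x y h) ∨ (M v 1 x ∧ M v 1 y) := by
  have heq := (equation_iff _ _).1 h.1
  have b₁ := M_one_iff.1 hW.a₁
  have b₂ := M_one_iff.1 hW.a₂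
  have b₃ := M_one_iff.1 hW.a₃
  have b₄ := M_one_iff.1 hW.a₄
  have b₆ := M_one_iff.1 hW.a₆
  rcases lt_or_ge 1 (v x) with hx | hx
  · left
    have hy : v x < v y := by
      by_contra hyx
      rw [not_lt] at hyx
      have hl : v (y ^ 2 + W.a₁ * x * y + W.a₃ * y) ≤ v x ^ 2 := by
        refine v.map_add_le (v.map_add_le ?_ ?_) ?_
        · rw [map_pow]; exact pow_le_pow_left' hyx 2
        · rw [map_mul, map_mul, mul_assoc, sq]
          exact (mul_le_of_le_one_left' b₁.le).trans (mul_le_mul' le_rfl hyx)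
        · rw [map_mul, sq]
          exact (mul_le_of_le_one_left' b₃.le).trans (hyx.trans (le_mul_of_one_le_left' hx.le))
      have hr : v (x ^ 3 + (W.a₂ * x ^ 2 + W.a₄ * x + W.a₆)) = v x ^ 3 := by
        have h23 : v x ^ 2 < v x ^ 3 := pow_lt_pow_right₀ hx (by norm_num)
        have h12 : v x ≤ v x ^ 2 := le_self_pow hx.le two_ne_zero
        rw [v.map_add_eq_of_lt_left, map_pow]
        rw [map_pow]
        refine v.map_add_lt (v.map_add_lt ?_ ?_) ?_
        · rw [map_mul, map_pow]; exact (mul_le_of_le_one_left' b₂.le).trans_lt h23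
        · rw [map_mul]; exact ((mul_le_of_le_one_left' b₄.le).trans h12).trans_lt h23
        · exact b₆.trans_le (one_le_pow_of_one_le' hx.le 3)
      rw [← add_assoc, ← add_assoc] at hr
      rw [heq, hr] at hl
      exact absurd hl (not_le.2 (pow_lt_pow_right₀ hx (by norm_num)))
    have hy0 : y ≠ 0 := fun h0 => by simp [h0] at hy
    have hvy : 0 < v y := zero_lt_iff.2 (v.ne_zero_iff.2 hy0)
    refine ⟨hy0, ?_, ?_⟩
    · rw [M_zero_iff, map_div₀]; exact div_le_one_of_le₀ hy.le hvy.le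
    · rw [M_zero_iff, map_div₀, map_one]; exact div_le_one_of_le₀ (hx.trans hy).le hvy.le
  · have hr : ∀ {c : K}, v c < 1 → v (c * x) < 1 := fun hc => by
      rw [map_mul]; exact mul_lt_one_of_lt_of_le hc hx
    have hrest : v (W.a₂ * x ^ 2 + W.a₄ * x + W.a₆) < 1 := by
      refine v.map_add_lt (v.map_add_lt ?_ (hr b₄)) b₆
      rw [sq, ← mul_assoc]; exact hr (hr b₂) |> fun h => h
    rcases lt_trichotomy (v y) 1 with hy | hy | hy
    · refine Or.inr ⟨?_, M_one_iff.2 hy⟩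
      have : v (x ^ 3) < 1 := by
        rw [show x ^ 3 = y ^ 2 + W.a₁ * x * y + W.a₃ * y - (W.a₂ * x ^ 2 + W.a₄ * x + W.a₆) by
          linear_combination -heq]
        refine (v.map_sub _ _).trans_lt (max_lt (v.map_add_lt (v.map_add_lt ?_ ?_) ?_) hrest)
        · rw [map_pow]; exact pow_lt_one₀ zero_le hy two_ne_zero
        · rw [map_mul]; exact mul_lt_one_of_lt_of_le (hr b₁) hy.le
        · rw [map_mul]; exact mul_lt_one_of_lt_of_le b₃ hy.le
      rw [map_pow] at this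
      exact M_one_iff.2 ((pow_lt_one_iff three_ne_zero).1 this)
    · left
      have hy0 : y ≠ 0 := fun h0 => by simp [h0] at hy
      refine ⟨hy0, ?_, ?_⟩
      · rw [M_zero_iff, map_div₀, hy, div_one]; exact hx
      · rw [M_zero_iff, map_div₀, hy, map_one, div_one]
    · exfalso
      have hy2 : v y < v y ^ 2 := by
        simpa using pow_lt_pow_right₀ hy (show 1 < 2 by norm_num)
      have hl : v (y ^ 2 + (W.a₁ * x * y + W.a₃ * y)) = v y ^ 2 := by
        rw [v.map_add_eq_of_lt_left, map_pow]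
        rw [map_pow]
        refine v.map_add_lt ?_ ?_
        · rw [map_mul]; exact (mul_le_of_le_one_left' (hr b₁).le).trans_lt hy2
        · rw [map_mul]; exact (mul_le_of_le_one_left' b₃.le).trans_lt hy2
      have hR : v (x ^ 3 + (W.a₂ * x ^ 2 + W.a₄ * x + W.a₆)) ≤ 1 :=
        v.map_add_le (by rw [map_pow]; exact pow_le_one' hx 3) hrest.le
      rw [← add_assoc, heq, add_assoc, add_assoc] at hl
      rw [add_assoc] at hR
      rw [hl] at hR
      exact absurd hR (not_le.2 (hy.trans hy2))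

end Groth.L15.EllTors
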