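import Groth.Agent.L15.EllTors.Filtration
import Mathlib.AlgebraicGeometry.EllipticCurve.Reduction
import Mathlib.FieldTheory.IsAlgClosed.Basic

/-!
A point of order `> 4` prime to the residue characteristic forces semistable reduction.
-/

set_option autoImplicit false
universe u

open WithZero
open WeierstrassCurve WeierstrassCurve.Affine

namespace Groth.L15.EllTors

section Transport

variable {K : Type u} [Field K] (W : WeierstrassCurve K) (r s t : K)

/-- The translation `(r, s, t)`. -/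
def vc : VariableChange K := ⟨1, r, s, t⟩

theorem vc_a₁ : (vc r s t • W).a₁ = W.a₁ + 2 * s := by simp [variableChange_a₁, vc]
theorem vc_a₂ : (vc r s t • W).a₂ = W.a₂ - s * W.a₁ + 3 * r - s ^ 2 := by simp [variableChange_a₂, vc]
theorem vc_a₃ : (vc r s t • W).a₃ = W.a₃ + r * W.a₁ + 2 * t := by simp [variableChange_a₃, vc]
theorem vc_a₄ : (vc r s t • W).a₄ =
    W.a₄ - s * W.a₃ + 2 * r * W.a₂ - (t + r * s) * W.a₁ + 3 * r ^ 2 - 2 * s * t := by
  simp [variableChange_a₄, vc]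
theorem vc_a₆ : (vc r s t • W).a₆ =
    W.a₆ + r * W.a₄ + r ^ 2 * W.a₂ + r ^ 3 - t * W.a₃ - t ^ 2 - r * t * W.a₁ := by
  simp [variableChange_a₆, vc]

theorem equation_vc {x y : K} (h : W.toAffine.Equation x y) :
    (vc r s t • W).toAffine.Equation (x - r) (y - s * (x - r) - t) := by
  rw [equation_iff] at h ⊢
  simp only [vc_a₁, vc_a₂, vc_a₃, vc_a₄, vc_a₆]
  linear_combination h

variable [W.IsElliptic] [DecidableEq K]

/-- The translation on points. -/
def mapPt : W.toAffine.Point → (vc r s t • W).toAffine.Point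
  | 0 => 0
  | .some x y h => .some (x - r) (y - s * (x - r) - t) (equation_iff_nonsingular.1 (equation_vc W r s t h.1))

theorem mapPt_add (P Q : W.toAffine.Point) : mapPt W r s t (P + Q) = mapPt W r s t P + mapPt W r s t Q := by
  rcases P with _ | ⟨x₁, y₁, h₁⟩
  · exact (congrArg _ (zero_add Q)).trans (zero_add _).symm
  rcases Q with _ | ⟨x₂, y₂, h₂⟩
  · exact (congrArg _ (add_zero _)).trans (add_zero _).symm
  have hn : ∀ x y : K, (vc r s t • W).toAffine.negY (x - r) (y - s * (x - r) - t) =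
      W.toAffine.negY x y - s * (x - r) - t := by
    intro x y; simp only [negY, vc_a₁, vc_a₃]; ring
  by_cases hxy : x₁ = x₂ ∧ y₁ = W.toAffine.negY x₂ y₂
  · rw [Point.add_of_Y_eq hxy.1 hxy.2]
    refine Eq.symm ?_
    exact Point.add_of_Y_eq (by rw [hxy.1]) (by rw [hn, hxy.1, hxy.2])
  have hxy' : ¬(x₁ - r = x₂ - r ∧
      y₁ - s * (x₁ - r) - t = (vc r s t • W).toAffine.negY (x₂ - r) (y₂ - s * (x₂ - r) - t)) := by
    rintro ⟨ha, hb⟩
    have hx : x₁ = x₂ := sub_left_injective ha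
    rw [hn, hx] at hb
    exact hxy ⟨hx, by linear_combination hb⟩
  have hslope : (vc r s t • W).toAffine.slope (x₁ - r) (x₂ - r) (y₁ - s * (x₁ - r) - t)
      (y₂ - s * (x₂ - r) - t) = W.toAffine.slope x₁ x₂ y₁ y₂ - s := by
    rcases eq_or_ne x₁ x₂ with hx | hx
    · subst hx
      have hy : y₁ ≠ W.toAffine.negY x₁ y₂ := fun h => hxy ⟨rfl, h⟩
      obtain rfl : y₁ = y₂ := Y_eq_of_Y_ne h₁.1 h₂.1 rfl hy
      rw [slope_of_Y_ne rfl (fun h => hxy' ⟨rfl, h⟩), slope_of_Y_ne rfl hy]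
      have hd : y₁ - W.toAffine.negY x₁ y₁ ≠ 0 := sub_ne_zero.2 hy
      have hd' : y₁ - s * (x₁ - r) - t - (vc r s t • W).toAffine.negY (x₁ - r) (y₁ - s * (x₁ - r) - t)
          = y₁ - W.toAffine.negY x₁ y₁ := by rw [hn]; ring
      rw [hd', eq_sub_iff_add_eq, div_add' _ _ _ hd, div_left_inj' hd]
      simp only [negY, vc_a₁, vc_a₂, vc_a₄]
      ring
    · rw [slope_of_X_ne hx, slope_of_X_ne (fun h => hx (sub_left_injective h))]
      have : x₁ - x₂ ≠ 0 := sub_ne_zero.2 hx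
      rw [show x₁ - r - (x₂ - r) = x₁ - x₂ by ring, eq_sub_iff_add_eq, div_add' _ _ _ this,
        div_left_inj' this]
      ring
  rw [Point.add_some hxy]
  simp only [mapPt]
  rw [Point.add_some hxy']
  simp only [Point.some.injEq, hslope, addX, addY, negAddY, negY, vc_a₁, vc_a₂, vc_a₃]
  constructor <;> ring

/-- The translation as a homomorphism. -/
def mapHom : W.toAffine.Point →+ (vc r s t • W).toAffine.Point where
  toFun := mapPt W r s t
  map_zero' := rfl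
  map_add' := mapPt_add W r s t

theorem mapHom_injective : Function.Injective (mapHom W r s t) := by
  rw [injective_iff_map_eq_zero]
  rintro (_ | ⟨x, y, h⟩) hP
  · rfl
  · exact absurd hP (Point.some_ne_zero _)

end Transport

variable {K : Type u} [Field K] [DecidableEq K] {v : Valuation K (WithZero (Multiplicative ℤ))}

theorem smul_small {W : WeierstrassCurve K} [W.IsElliptic] (hW : Small v W.toAffine) {n : ℕ}
    (hvn : v (n : K) = 1) {P : W.toAffine.Point} (hP : addOrderOf P = n) {k : ℕ} (hk : 0 < k)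
    (hkn : k < n) {x y : K} {h : W.toAffine.Nonsingular x y} (he : k • P = .some x y h) :
    M v 1 x ∧ M v 1 y := by
  refine (good_or_small hW h).resolve_left fun hg => Point.some_ne_zero h ?_
  refine eq_zero_of_good hW hvn _ hg ?_
  rw [← he, ← mul_nsmul', mul_comm, mul_nsmul', ← hP, addOrderOf_nsmul_eq_zero, nsmul_zero]

theorem smul_ne {W : WeierstrassCurve K} {n : ℕ} {P : W.toAffine.Point} (hP : addOrderOf P = n)
    {k : ℕ} (hk : 0 < k) (hkn : k < n) : k • P ≠ 0 :=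
  nsmul_ne_zero_of_lt_addOrderOf hk.ne' (hP ▸ hkn)

/-- Tate normal form step. -/
theorem main₁ {W : WeierstrassCurve K} [W.IsElliptic] (hW : Small v W.toAffine) (h4 : W.a₄ = 0)
    (h6 : W.a₆ = 0) {ϖ : K} (hϖ : v ϖ = exp (-1)) {n : ℕ} (hn : 4 < n) (hvn : v (n : K) = 1)
    (h : W.toAffine.Nonsingular 0 0) (hP : addOrderOf (Point.some 0 0 h) = n) :
    ∃ C : VariableChange K, v (C • W).a₁ ≤ 1 ∧ v (C • W).a₂ ≤ 1 ∧ v (C • W).a₃ ≤ 1 ∧
      v (C • W).a₄ ≤ 1 ∧ v (C • W).a₆ ≤ 1 ∧ v W.Δ < v (C • W).Δ := by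
  set P := Point.some 0 0 h
  have hsucc2 : 3 • P = P + 2 • P := succ_nsmul' P 2
  have hsucc3 : 4 • P = P + 3 • P := succ_nsmul' P 3
  have h3 : W.a₃ ≠ 0 := fun h0 => smul_ne hP two_pos (by omega) (by
    rw [two_nsmul]; exact Point.add_of_Y_eq rfl (by simp [negY, h0]))
  have hy : (0 : K) ≠ W.toAffine.negY 0 0 := by simpa [negY] using fun hh => h3 (by linear_combination hh)
  obtain ⟨x₂, y₂, k₂, e2, hx₂, hy₂⟩ : ∃ x y, ∃ k, 2 • P = Point.some x y k ∧ x = -W.a₂ ∧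
      y = W.a₁ * W.a₂ - W.a₃ := by
    refine ⟨_, _, _, (two_nsmul P).trans (Point.add_of_Y_ne hy), ?_, ?_⟩
    · rw [slope_of_Y_ne rfl hy]; simp [addX, h4]
    · rw [slope_of_Y_ne rfl hy]; simp [addY, negAddY, addX, negY, h4]
  have ha2 : W.a₂ ≠ 0 := fun h0 => smul_ne hP three_pos (by omega) (by
    rw [hsucc2, e2]
    exact Point.add_of_Y_eq (by rw [hx₂, h0, neg_zero]) (by rw [hx₂, hy₂]; simp [negY, h0]))
  set u := W.a₃ / W.a₂ with hu
  set d := u - W.a₁ with hd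
  have hne : (0 : K) ≠ x₂ := by rw [hx₂]; simpa using ha2
  have hs : W.toAffine.slope 0 x₂ 0 y₂ = d := by
    have : W.a₃ = u * W.a₂ := by rw [hu, div_mul_cancel₀ _ ha2]
    rw [slope_of_X_ne hne, div_eq_iff (sub_ne_zero.2 hne), hx₂, hy₂, hd]; linear_combination this
  obtain ⟨x₃, y₃, k₃, e3, hx₃, hy₃⟩ : ∃ x y, ∃ k, 3 • P = Point.some x y k ∧ x = u * d ∧
      y = -u * (u * d) - W.a₃ := by
    refine ⟨_, _, _, by rw [hsucc2, e2]; exact Point.add_of_X_ne hne, ?_, ?_⟩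
    · simp only [addX, hs]; rw [hx₂, hd]; simp only [WeierstrassCurve.toAffine]; ring
    · simp only [addY, negAddY, negY, addX, hs]; rw [hx₂, hd]; simp only [WeierstrassCurve.toAffine]; ring
  have hu0 : u ≠ 0 := div_ne_zero h3 ha2
  have hvu : v u < 1 := by
    by_contra hge
    rw [not_lt] at hge
    have hvd : v d = v u := v.map_sub_eq_of_lt_left ((M_one_iff.1 hW.a₁).trans_le hge)
    have := M_one_iff.1 (smul_small hW hvn hP three_pos (by omega) e3).1
    rw [hx₃, map_mul, hvd] at this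
    exact absurd this (not_lt.2 (Right.one_le_mul hge hge))
  have hvd : v d < 1 := (v.map_sub _ _).trans_lt (max_lt hvu (M_one_iff.1 hW.a₁))
  have hd0 : d ≠ 0 := fun h0 => smul_ne hP four_pos hn (by
    rw [hsucc3, e3]
    exact Point.add_of_Y_eq (by rw [hx₃, h0, mul_zero]) (by rw [hx₃, hy₃, h0]; simp [negY]))
  have hne' : (0 : K) ≠ x₃ := by rw [hx₃]; exact (mul_ne_zero hu0 hd0).symm
  set q := W.a₂ / d with hq
  have hs' : W.toAffine.slope 0 x₃ 0 y₃ = -u - q := by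
    rw [slope_of_X_ne hne', hx₃, hy₃, hq]
    have : W.a₃ = u * W.a₂ := by rw [hu, div_mul_cancel₀ _ ha2]
    rw [this]; field_simp; ring
  obtain ⟨x₄, y₄, k₄, e4, hx₄⟩ : ∃ x y, ∃ k, 4 • P = Point.some x y k ∧ x = q * (q + u) := by
    refine ⟨_, _, _, by rw [hsucc3, e3]; exact Point.add_of_X_ne hne', ?_⟩
    simp only [addX, hs']
    rw [hx₃]
    simp only [WeierstrassCurve.toAffine]
    have : W.a₂ = q * d := by rw [hq, div_mul_cancel₀ _ hd0]
    have : W.a₁ = u - d := by rw [hd]; ring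
    rw [this, ‹W.a₂ = q * d›]; ring
  have ha2' : M v 2 W.a₂ := by
    by_contra hh
    have h1 : exp (-1 : ℤ) ≤ v W.a₂ := by
      obtain ⟨k, hk⟩ : ∃ k, v W.a₂ = exp k := ⟨_, (exp_log (v.ne_zero_iff.2 ha2)).symm⟩
      rw [M, hk, exp_le_exp] at hh
      rw [hk, exp_le_exp]
      omega
    have hvq : 1 ≤ v q := by
      rw [hq, map_div₀, one_le_div₀ (zero_lt_iff.2 (v.ne_zero_iff.2 hd0))]
      exact le_trans (M_one_iff.2 hvd) h1
    have := M_one_iff.1 (smul_small hW hvn hP four_pos hn e4).1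
    rw [hx₄, map_mul, v.map_add_eq_of_lt_left (hvu.trans_le hvq)] at this
    exact absurd this (not_lt.2 (Right.one_le_mul hvq hvq))
  have ha3' : M v 3 W.a₃ := by
    have := (M_one_iff.2 hvu).mul ha2'
    rwa [hu, div_mul_cancel₀ _ ha2] at this
  have hϖ0 : ϖ ≠ 0 := fun h0 => exp_ne_zero (a := (-1 : ℤ)) (by rw [← hϖ, h0, map_zero])
  have hinv : v ϖ⁻¹ = exp 1 := by rw [map_inv₀, hϖ, ← exp_neg]; norm_num
  have hscale : ∀ (j : ℕ) (a : K), M v j a → v (ϖ⁻¹ ^ j * a) ≤ 1 := by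
    intro j a ha
    rw [map_mul, map_pow, hinv, ← exp_nsmul]
    refine (mul_le_mul' le_rfl ha).trans ?_
    rw [← exp_add, ← exp_zero, exp_le_exp]; simp
  refine ⟨⟨Units.mk0 ϖ hϖ0, 0, 0, 0⟩, ?_, ?_, ?_, ?_, ?_, ?_⟩
  · simpa [variableChange_a₁] using hscale 1 _ hW.a₁
  · simpa [variableChange_a₂] using hscale 2 _ ha2'
  · simpa [variableChange_a₃] using hscale 3 _ ha3'
  · simp [variableChange_a₄, h4]
  · simp [variableChange_a₆, h4, h6]
  · rw [variableChange_Δ, map_mul, map_pow, Units.val_inv_eq_inv_val, Units.val_mk0, hinv, ← exp_nsmul]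
    refine lt_mul_of_one_lt_left (zero_lt_iff.2 (v.ne_zero_iff.2 W.isUnit_Δ.ne_zero)) ?_
    rw [← exp_zero, exp_lt_exp]; norm_num

/-- With all coefficients small, the equation is not minimal. -/
theorem not_minimal {W : WeierstrassCurve K} [W.IsElliptic] (hW : Small v W.toAffine) {ϖ : K}
    (hϖ : v ϖ = exp (-1)) {n : ℕ} (hn : 4 < n) (hvn : v (n : K) = 1) (P : W.toAffine.Point)
    (hP : addOrderOf P = n) :
    ∃ C : VariableChange K, v (C • W).a₁ ≤ 1 ∧ v (C • W).a₂ ≤ 1 ∧ v (C • W).a₃ ≤ 1 ∧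
      v (C • W).a₄ ≤ 1 ∧ v (C • W).a₆ ≤ 1 ∧ v W.Δ < v (C • W).Δ := by
  rcases P with _ | ⟨x₀, y₀, h₀⟩
  · rw [← Point.zero_def, addOrderOf_zero] at hP; omega
  obtain ⟨hx, hy⟩ := smul_small hW hvn hP one_pos (by omega) (one_nsmul _)
  have t2 : M v 0 (2 : K) := M.ofNat 2
  have t3 : M v 0 (3 : K) := M.ofNat 3
  set W₁ := vc x₀ 0 y₀ • W with hW₁
  have a6 : W₁.a₆ = 0 := by
    rw [hW₁, vc_a₆]; linear_combination -(equation_iff _ _).1 h₀.1
  have hS₁ : Small v W₁.toAffine := by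
    refine ⟨?_, ?_, ?_, ?_, ?_⟩
    · show M v 1 W₁.a₁; rw [hW₁, vc_a₁]; simpa using hW.a₁
    · show M v 1 W₁.a₂; rw [hW₁, vc_a₂]; simpa using hW.a₂.add ((t3.mul hx).mono (by omega))
    · show M v 1 W₁.a₃; rw [hW₁, vc_a₃]
      exact (hW.a₃.add ((hx.mul hW.a₁).mono (by omega))).add ((t2.mul hy).mono (by omega))
    · show M v 1 W₁.a₄; rw [hW₁, vc_a₄]
      simp only [zero_mul, sub_zero, mul_zero, add_zero]
      exact ((hW.a₄.add (((t2.mul hx).mul hW.a₂).mono (by omega))).sub ((hy.mul hW.a₁).mono (by omega))).add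
        (by rw [sq]; exact (t3.mul (hx.mul hx)).mono (by omega))
    · show M v 1 W₁.a₆; rw [a6]; exact M.zero 1
  obtain ⟨h₁, hP₁⟩ : ∃ h₁ : W₁.toAffine.Nonsingular 0 0, addOrderOf (Point.some 0 0 h₁) = n := by
    have := (addOrderOf_injective _ (mapHom_injective W x₀ 0 y₀) (Point.some x₀ y₀ h₀)).trans hP
    revert this
    show addOrderOf (mapPt W x₀ 0 y₀ (Point.some x₀ y₀ h₀)) = n → _
    simp only [mapPt, sub_self, zero_mul, sub_zero, mul_zero]
    exact fun this => ⟨_, this⟩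
  have h3 : W₁.a₃ ≠ 0 := fun h0 => smul_ne hP₁ two_pos (by omega) (by
    rw [two_nsmul]; exact Point.add_of_Y_eq rfl (by simp [negY, h0]))
  have hyne : (0 : K) ≠ W₁.toAffine.negY 0 0 := by simpa [negY] using fun hh => h3 (by linear_combination hh)
  set lam := W₁.a₄ / W₁.a₃ with hlam
  obtain ⟨x₂, y₂, k₂, e2, hx₂⟩ : ∃ x y, ∃ k, 2 • Point.some 0 0 h₁ = Point.some x y k ∧
      x = lam ^ 2 + W₁.a₁ * lam - W₁.a₂ := by
    refine ⟨_, _, _, (two_nsmul _).trans (Point.add_of_Y_ne hyne), ?_⟩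
    rw [slope_of_Y_ne rfl hyne, hlam]
    simp [addX, negY]
  have hvl : M v 1 lam := by
    rw [M_one_iff]
    by_contra hge
    rw [not_lt] at hge
    have h := M_one_iff.1 (smul_small hS₁ hvn hP₁ two_pos (by omega) e2).1
    have hsq : 1 ≤ v lam ^ 2 := one_le_pow_of_one_le' hge 2
    rw [hx₂, add_sub_assoc, v.map_add_eq_of_lt_left, map_pow] at h
    · exact absurd h (not_lt.2 hsq)
    · rw [map_pow]
      refine (v.map_sub _ _).trans_lt (max_lt ?_ ((M_one_iff.1 hS₁.a₂).trans_le hsq))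
      rw [map_mul]
      have hl0 : 0 < v lam := zero_lt_one.trans_le hge
      calc v W₁.a₁ * v lam < 1 * v lam := mul_lt_mul_of_pos_right (M_one_iff.1 hS₁.a₁) hl0
        _ ≤ v lam ^ 2 := by rw [one_mul]; exact le_self_pow hge two_ne_zero
  set W₂ := vc 0 lam 0 • W₁ with hW₂
  have b4 : W₂.a₄ = 0 := by
    rw [hW₂, vc_a₄, hlam]; simp [div_mul_cancel₀ _ h3]
  have b6 : W₂.a₆ = 0 := by rw [hW₂, vc_a₆, a6]; simp
  have hS₂ : Small v W₂.toAffine := by
    refine ⟨?_, ?_, ?_, ?_, ?_⟩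
    · show M v 1 W₂.a₁; rw [hW₂, vc_a₁]; exact hS₁.a₁.add ((t2.mul hvl).mono (by omega))
    · show M v 1 W₂.a₂; rw [hW₂, vc_a₂]; simp only [mul_zero, add_zero]
      exact (hS₁.a₂.sub ((hvl.mul hS₁.a₁).mono (by omega))).sub (by rw [sq]; exact (hvl.mul hvl).mono (by omega))
    · show M v 1 W₂.a₃; rw [hW₂, vc_a₃]; simpa using hS₁.a₃
    · show M v 1 W₂.a₄; rw [b4]; exact M.zero 1
    · show M v 1 W₂.a₆; rw [b6]; exact M.zero 1
  obtain ⟨h₂, hP₂⟩ : ∃ h₂ : W₂.toAffine.Nonsingular 0 0, addOrderOf (Point.some 0 0 h₂) = n := by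
    have := (addOrderOf_injective _ (mapHom_injective W₁ 0 lam 0) (Point.some 0 0 h₁)).trans hP₁
    revert this
    show addOrderOf (mapPt W₁ 0 lam 0 (Point.some 0 0 h₁)) = n → _
    simp only [mapPt, sub_self, mul_zero, sub_zero]
    exact fun this => ⟨_, this⟩
  obtain ⟨C, c1, c2, c3, c4, c6, cΔ⟩ := main₁ hS₂ b4 b6 hϖ hn hvn h₂ hP₂
  refine ⟨C * vc 0 lam 0 * vc x₀ 0 y₀, ?_⟩
  rw [mul_smul, mul_smul, ← hW₁, ← hW₂]
  refine ⟨c1, c2, c3, c4, c6, lt_of_eq_of_lt ?_ cΔ⟩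
  simp [hW₂, hW₁, variableChange_Δ, vc]

/-- A cuspidal cubic over an algebraically closed field can be translated to `y² = x³`. -/
theorem exists_cusp {k : Type u} [Field k] [IsAlgClosed k] (W : WeierstrassCurve k) (hΔ : W.Δ = 0)
    (hc : W.c₄ = 0) :
    ∃ r s t : k, (vc r s t • W).a₁ = 0 ∧ (vc r s t • W).a₂ = 0 ∧ (vc r s t • W).a₃ = 0 ∧
      (vc r s t • W).a₄ = 0 ∧ (vc r s t • W).a₆ = 0 := by
  simp only [vc_a₁, vc_a₂, vc_a₃, vc_a₄, vc_a₆]
  simp only [WeierstrassCurve.Δ, WeierstrassCurve.c₄, WeierstrassCurve.b₂, WeierstrassCurve.b₄,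
    WeierstrassCurve.b₆, WeierstrassCurve.b₈] at hΔ hc
  by_cases h2 : (2 : k) = 0
  · have ha1 : W.a₁ = 0 := by
      have : W.a₁ ^ 4 = 0 := by
        linear_combination hc + (-4 * W.a₁ ^ 2 * W.a₂ - 8 * W.a₂ ^ 2 + 12 * (2 * W.a₄ + W.a₁ * W.a₃)) * h2
      exact eq_zero_of_pow_eq_zero this
    have ha3 : W.a₃ = 0 := by
      rw [ha1] at hΔ
      have : W.a₃ ^ 4 = 0 := by
        linear_combination hΔ + (14 * W.a₃ ^ 4 + 108 * W.a₃ ^ 2 * W.a₆ + 216 * W.a₆ ^ 2 + 256 * 0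
          + 8 * W.a₂ ^ 2 * (4 * W.a₂ * W.a₆ + W.a₂ * W.a₃ ^ 2 - W.a₄ ^ 2) + 32 * W.a₄ ^ 3
          - 36 * W.a₂ * W.a₄ * (W.a₃ ^ 2 + 4 * W.a₆)) * h2
      exact eq_zero_of_pow_eq_zero this
    obtain ⟨r, hr⟩ := IsAlgClosed.exists_pow_nat_eq W.a₄ (n := 2) two_pos
    obtain ⟨s, hs⟩ := IsAlgClosed.exists_pow_nat_eq (W.a₂ + r) (n := 2) two_pos
    obtain ⟨t, ht⟩ := IsAlgClosed.exists_pow_nat_eq (W.a₆ + r * W.a₄ + r ^ 2 * W.a₂ + r ^ 3) (n := 2) two_pos
    refine ⟨r, s, t, ?_, ?_, ?_, ?_, ?_⟩ <;> rw [ha1] <;> try rw [ha3]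
    · linear_combination s * h2
    · linear_combination r * h2 - hs
    · linear_combination t * h2
    · linear_combination (r * W.a₂ + r ^ 2 - s * t + W.a₄) * h2 + hr
    · linear_combination -ht
  · obtain ⟨s, hs⟩ : ∃ s, W.a₁ + 2 * s = 0 := ⟨-W.a₁ / 2, by field_simp; ring⟩
    set B2 := W.a₁ ^ 2 + 4 * W.a₂ with hB2
    set B4 := 2 * W.a₄ + W.a₁ * W.a₃ with hB4
    set B6 := W.a₃ ^ 2 + 4 * W.a₆ with hB6
    have hb8 : 4 * (W.a₁ ^ 2 * W.a₆ + 4 * W.a₂ * W.a₆ - W.a₁ * W.a₃ * W.a₄ + W.a₂ * W.a₃ ^ 2 - W.a₄ ^ 2)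
        = B2 * B6 - B4 ^ 2 := by rw [hB2, hB4, hB6]; ring
    obtain ⟨r, hr2, hr4, hr6⟩ : ∃ r, B2 + 12 * r = 0 ∧ B4 + r * B2 + 6 * r ^ 2 = 0 ∧
        B6 + 2 * r * B4 + r ^ 2 * B2 + 4 * r ^ 3 = 0 := by
      by_cases h3 : (3 : k) = 0
      · have hb2 : B2 = 0 := by
          have : B2 ^ 2 = 0 := by linear_combination hc + 8 * B4 * h3
          exact eq_zero_of_pow_eq_zero this
        have hb4 : B4 = 0 := by
          have : (2 : k) ^ 3 * B4 ^ 3 = 0 := by
            rw [hb2] at hΔ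
            linear_combination -hΔ - 9 * B6 ^ 2 * h3
          exact eq_zero_of_pow_eq_zero ((mul_eq_zero.1 this).resolve_left (pow_ne_zero 3 h2))
        obtain ⟨r, hr⟩ := IsAlgClosed.exists_pow_nat_eq (-B6) (n := 3) three_pos
        refine ⟨r, ?_, ?_, ?_⟩ <;> simp only [hb2, hb4]
        · linear_combination 4 * r * h3
        · linear_combination 2 * r ^ 2 * h3
        · linear_combination hr + r ^ 3 * h3
      · have h12 : (12 : k) ≠ 0 := by
          rw [show (12 : k) = 2 * 2 * 3 by norm_num]; exact mul_ne_zero (mul_ne_zero h2 h2) h3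
        obtain ⟨r, hr⟩ : ∃ r, B2 + 12 * r = 0 := ⟨-B2 / 12, by field_simp; ring⟩
        have e4 : B4 + r * B2 + 6 * r ^ 2 = 0 := by
          have : (2 : k) ^ 3 * 3 * (B4 + r * B2 + 6 * r ^ 2) = 0 := by
            linear_combination -hc + (B2 + 12 * r) * hr
          exact (mul_eq_zero.1 this).resolve_left (mul_ne_zero (pow_ne_zero 3 h2) h3)
        refine ⟨r, hr, e4, ?_⟩
        have hB2' : B2 = -12 * r := by linear_combination hr
        have hB4' : B4 = 6 * r ^ 2 := by rw [hB2'] at e4; linear_combination e4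
        have : (3 : k) ^ 3 * (B6 + 2 * r * B4 + r ^ 2 * B2 + 4 * r ^ 3) ^ 2 = 0 := by
          have h4 : (4 : k) ≠ 0 := by rw [show (4 : k) = 2 * 2 by norm_num]; exact mul_ne_zero h2 h2
          have hΔ' : -B2 ^ 2 * (B2 * B6 - B4 ^ 2) + 4 * (-8 * B4 ^ 3 - 27 * B6 ^ 2 + 9 * B2 * B4 * B6) = 0 := by
            rw [← hb8]; linear_combination 4 * hΔ
          rw [hB2', hB4'] at hΔ' ⊢
          refine (mul_eq_zero.1 (?_ : (4 : k) * _ = 0)).resolve_left h4
          linear_combination -hΔ'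
        exact eq_zero_of_pow_eq_zero ((mul_eq_zero.1 this).resolve_left (pow_ne_zero 3 h3))
    obtain ⟨t, ht⟩ : ∃ t, W.a₃ + r * W.a₁ + 2 * t = 0 :=
      ⟨-(W.a₃ + r * W.a₁) / 2, by field_simp; ring⟩
    refine ⟨r, s, t, hs, ?_, ht, ?_, ?_⟩
    · have : (2 : k) ^ 2 * (W.a₂ - s * W.a₁ + 3 * r - s ^ 2) = 0 := by
        linear_combination hr2 - (W.a₁ + 2 * s) * hs
      exact (mul_eq_zero.1 this).resolve_left (pow_ne_zero 2 h2)
    · have : (2 : k) * (W.a₄ - s * W.a₃ + 2 * r * W.a₂ - (t + r * s) * W.a₁ + 3 * r ^ 2 - 2 * s * t) = 0 := by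
        linear_combination hr4 - (W.a₃ + r * W.a₁ + 2 * t) * hs
      exact (mul_eq_zero.1 this).resolve_left h2
    · have : (2 : k) ^ 2 * (W.a₆ + r * W.a₄ + r ^ 2 * W.a₂ + r ^ 3 - t * W.a₃ - t ^ 2 - r * t * W.a₁) = 0 := by
        linear_combination hr6 - (W.a₃ + r * W.a₁ + 2 * t) * ht
      exact (mul_eq_zero.1 this).resolve_left (pow_ne_zero 2 h2)

open IsDedekindDomain.HeightOneSpectrum in
theorem semistable (R : Type u) [CommRing R] [IsDomain R] [IsDiscreteValuationRing R]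
    [IsAlgClosed (IsLocalRing.ResidueField R)]
    (K : Type u) [Field K] [DecidableEq K] [Algebra R K] [IsFractionRing R K]
    (W : WeierstrassCurve K) [W.IsElliptic] [hm : WeierstrassCurve.IsMinimal R W]
    (n : ℕ) (hn : 4 < n) (hk : (n : IsLocalRing.ResidueField R) ≠ 0)
    (P : W.toAffine.Point) (hP : addOrderOf P = n) :
    W.HasGoodReduction R ∨ W.HasMultiplicativeReduction R := by
  rcases hasGoodReduction_or_hasMultiplicativeReduction_or_hasAdditiveReduction (R := R) (W := W)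
    with h | h | h
  · exact Or.inl h
  · exact Or.inr h
  exfalso
  let v := valuation K (IsDiscreteValuationRing.maximalIdeal R)
  have hle : ∀ a : R, v (algebraMap R K a) ≤ 1 := fun a => valuation_le_one _ a
  have hlt : ∀ a : R, v (algebraMap R K a) < 1 ↔ IsLocalRing.residue R a = 0 := fun a => by
    rw [IsLocalRing.residue_eq_zero_iff]; exact valuation_lt_one_iff_mem _ _
  set I := integralModel R W
  set Ibar := I.map (IsLocalRing.residue R)
  have hΔ : Ibar.Δ = 0 := by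
    rw [show Ibar.Δ = _ from map_Δ _ _, ← hlt, integralModel_Δ_eq]; exact h.badReduction
  have hc : Ibar.c₄ = 0 := by
    rw [show Ibar.c₄ = _ from map_c₄ _ _, ← hlt, integralModel_c₄_eq]; exact h.additiveReduction
  obtain ⟨r₀, s₀, t₀, q1, q2, q3, q4, q6⟩ := exists_cusp Ibar hΔ hc
  obtain ⟨r, rfl⟩ := IsLocalRing.residue_surjective r₀
  obtain ⟨s, rfl⟩ := IsLocalRing.residue_surjective s₀
  obtain ⟨t, rfl⟩ := IsLocalRing.residue_surjective t₀
  set W' := vc (algebraMap R K r) (algebraMap R K s) (algebraMap R K t) • W with hW'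
  have e1 := integralModel_a₁_eq R W
  have e2 := integralModel_a₂_eq R W
  have e3 := integralModel_a₃_eq R W
  have e4 := integralModel_a₄_eq R W
  have e6 := integralModel_a₆_eq R W
  simp only [vc_a₁, vc_a₂, vc_a₃, vc_a₄, vc_a₆, Ibar, map_a₁, map_a₂, map_a₃, map_a₄, map_a₆] at q1 q2 q3 q4 q6
  have hS : Small v W'.toAffine := by
    refine ⟨?_, ?_, ?_, ?_, ?_⟩ <;> rw [M_one_iff]
    · show v W'.a₁ < 1
      have := (hlt (I.a₁ + 2 * s)).2 (by simpa [map_ofNat] using q1)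
      simpa [hW', vc_a₁, ← e1, I, map_ofNat] using this
    · show v W'.a₂ < 1
      have := (hlt (I.a₂ - s * I.a₁ + 3 * r - s ^ 2)).2 (by simpa [map_ofNat] using q2)
      simpa [hW', vc_a₂, ← e1, ← e2, I, map_ofNat] using this
    · show v W'.a₃ < 1
      have := (hlt (I.a₃ + r * I.a₁ + 2 * t)).2 (by simpa [map_ofNat] using q3)
      simpa [hW', vc_a₃, ← e1, ← e3, I, map_ofNat] using this
    · show v W'.a₄ < 1
      have := (hlt (I.a₄ - s * I.a₃ + 2 * r * I.a₂ - (t + r * s) * I.a₁ + 3 * r ^ 2 - 2 * s * t)).2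
        (by simpa [map_ofNat] using q4)
      simpa [hW', vc_a₄, ← e1, ← e2, ← e3, ← e4, I, map_ofNat] using this
    · show v W'.a₆ < 1
      have := (hlt (I.a₆ + r * I.a₄ + r ^ 2 * I.a₂ + r ^ 3 - t * I.a₃ - t ^ 2 - r * t * I.a₁)).2
        (by simpa [map_ofNat] using q6)
      simpa [hW', vc_a₆, ← e1, ← e2, ← e3, ← e4, ← e6, I, map_ofNat] using this
  have hvn : v (n : K) = 1 := by
    rw [← map_natCast (algebraMap R K)]
    refine le_antisymm (hle _) (not_lt.1 fun hh => hk ?_)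
    simpa using (hlt _).1 hh
  obtain ⟨ϖ, hϖ⟩ := valuation_exists_uniformizer K (IsDiscreteValuationRing.maximalIdeal R)
  obtain ⟨C, c1, c2, c3, c4, c6, cΔ⟩ := not_minimal hS hϖ hn hvn
    (mapHom W (algebraMap R K r) (algebraMap R K s) (algebraMap R K t) P)
    ((addOrderOf_injective _ (mapHom_injective W _ _ _) P).trans hP)
  set D := C * vc (algebraMap R K r) (algebraMap R K s) (algebraMap R K t)
  haveI hint : IsIntegral R (D • W) := by
    rw [mul_smul, ← hW']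
    exact isIntegral_of_exists_lift R (IsDiscreteValuationRing.exists_lift_of_le_one c1)
      (IsDiscreteValuationRing.exists_lift_of_le_one c2) (IsDiscreteValuationRing.exists_lift_of_le_one c3)
      (IsDiscreteValuationRing.exists_lift_of_le_one c4) (IsDiscreteValuationRing.exists_lift_of_le_one c6)
  have hlt' : v W.Δ < v (D • W).Δ := by
    rw [mul_smul, ← hW']
    refine lt_of_eq_of_lt ?_ cΔ
    simp [hW', variableChange_Δ, vc]
  have hmax := hm.val_Δ_maximal.2 (j := D) hint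
  simp only [one_smul] at hmax
  rw [← Subtype.coe_le_coe, ← Subtype.coe_le_coe, valuation_Δ_aux_eq_of_isIntegral,
    valuation_Δ_aux_eq_of_isIntegral] at hmax
  exact absurd (hmax hlt'.le) (not_le.2 hlt')

end Groth.L15.EllTors
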